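import Cfsg.Agent.H121.Chr
set_option linter.all false

/-!
# Lower bounds for the degrees of the nontrivial complex representations of a finite group

`MinDeg G b`: every nontrivial finite-dimensional complex representation of `G` has degree at least `b`.
-/

set_option autoImplicit false

namespace Cfsg.Agent.H122

open Module

/-- every nontrivial complex representation of `G` has degree at least `b` -/
def MinDeg (G : Type*) [Group G] (b : ℕ) : Prop :=
  ∀ (M : Type) [AddCommGroup M] [Module ℂ M] [FiniteDimensional ℂ M] (ρ : Representation ℂ G M),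
    (∃ g, ρ g ≠ 1) → b ≤ finrank ℂ M

theorem MinDeg.mono {G : Type*} [Group G] {b b' : ℕ} (h : MinDeg G b) (hb : b' ≤ b) : MinDeg G b' := by
  intro M _ _ _ ρ hρ
  exact hb.trans (h M ρ hρ)

/-- passage to a quotient -/
theorem MinDeg.of_surjective {G H : Type*} [Group G] [Group H] {b : ℕ} (h : MinDeg G b) (f : G →* H)
    (hf : Function.Surjective f) : MinDeg H b := by
  intro M _ _ _ ρ hρ
  obtain ⟨g, hg⟩ := hρ
  obtain ⟨x, rfl⟩ := hf g
  exact h M (ρ.comp f) ⟨x, hg⟩

theorem MinDeg.congr {G H : Type*} [Group G] [Group H] {b : ℕ} (h : MinDeg G b) (e : G ≃* H) : MinDeg H b :=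
  h.of_surjective e.toMonoidHom e.surjective

/-- the bound for the irreducible representations -/
theorem MinDeg.irr {G : Type*} [Group G] {b : ℕ} (h : MinDeg G b) (k : ℕ)
    (ρ : Representation ℂ G (Fin k → ℂ)) (hρ : ρ.IsIrreducible) (hk : 2 ≤ k) : b ≤ k := by
  have := h (Fin k → ℂ) ρ (Cfsg.Agent.H121.Chr.exists_ne_one ρ hρ hk)
  rwa [finrank_fin_fun] at this

/-- it is enough to consider irreducible representations -/
theorem minDeg_of_irr {G : Type*} [Group G] [Finite G] {b : ℕ}
    (h : ∀ (M : Type) [AddCommGroup M] [Module ℂ M] [FiniteDimensional ℂ M] (ρ : Representation ℂ G M),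
      ρ.IsIrreducible → (∃ g, ρ g ≠ 1) → b ≤ finrank ℂ M) : MinDeg G b := by
  have key : ∀ (n : ℕ) (M : Type) [AddCommGroup M] [Module ℂ M] [FiniteDimensional ℂ M]
      (ρ : Representation ℂ G M), finrank ℂ M = n → (∃ g, ρ g ≠ 1) → b ≤ finrank ℂ M := by
    intro n
    induction n using Nat.strong_induction_on with
    | _ n ih =>
      intro M _ _ _ ρ hn hρ
      by_cases hirr : ρ.IsIrreducible
      · exact h M ρ hirr hρ
      have hnt : Nontrivial M := by
        by_contra hcon
        rw [not_nontrivial_iff_subsingleton] at hcon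
        obtain ⟨g, hg⟩ := hρ
        apply hg
        ext v
        exact Subsingleton.elim _ _
      have hnt2 : Nontrivial (Subrepresentation ρ) := by
        refine ⟨⊥, ⊤, ?_⟩
        intro he
        obtain ⟨v, hv⟩ := exists_ne (0 : M)
        have h1 : (⊥ : Submodule ℂ M) = ⊤ := congrArg Subrepresentation.toSubmodule he
        have h2 : v ∈ (⊤ : Submodule ℂ M) := Submodule.mem_top
        rw [← h1] at h2
        exact hv ((Submodule.mem_bot ℂ).1 h2)
      -- a proper nonzero subrepresentation
      have hex : ∃ N : Subrepresentation ρ, N ≠ ⊥ ∧ N ≠ ⊤ := by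
        by_contra hcon
        push Not at hcon
        apply hirr
        exact { eq_bot_or_eq_top := fun N => by
                  by_cases hN : N = ⊥
                  · exact Or.inl hN
                  · exact Or.inr (hcon N hN) }
      obtain ⟨N, hN1, hN2⟩ := hex
      have hss : ρ.IsSemisimpleRepresentation := by
        rw [Representation.isSemisimpleRepresentation_iff_isSemisimpleModule_asModule]
        have : NeZero (Nat.card G : ℂ) := ⟨Nat.cast_ne_zero.2 Nat.card_pos.ne'⟩
        infer_instance
      obtain ⟨N', hNN'⟩ := hss.exists_isCompl N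
      have hsup : N.toSubmodule ⊔ N'.toSubmodule = ⊤ := by
        have := hNN'.codisjoint.eq_top
        exact congrArg Subrepresentation.toSubmodule this
      have hinf : N.toSubmodule ⊓ N'.toSubmodule = ⊥ := by
        have := hNN'.disjoint.eq_bot
        exact congrArg Subrepresentation.toSubmodule this
      have hdim := Submodule.finrank_sup_add_finrank_inf_eq N.toSubmodule N'.toSubmodule
      rw [hsup, hinf, finrank_top, finrank_bot, add_zero] at hdim
      have hNtop : N.toSubmodule ≠ ⊤ := fun he => hN2 (Subrepresentation.toSubmodule_injective he)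
      have hNbot : N.toSubmodule ≠ ⊥ := fun he => hN1 (Subrepresentation.toSubmodule_injective he)
      have hlt : finrank ℂ N.toSubmodule < finrank ℂ M := Submodule.finrank_lt hNtop
      have hpos : 0 < finrank ℂ N.toSubmodule := by
        rw [Nat.pos_iff_ne_zero]
        intro h0
        exact hNbot (Submodule.finrank_eq_zero.1 h0)
      by_cases hc : ∃ g, N.toRepresentation g ≠ 1
      · exact (ih _ (by omega) N.toSubmodule N.toRepresentation rfl hc).trans (by omega)
      by_cases hc' : ∃ g, N'.toRepresentation g ≠ 1
      · exact (ih _ (by omega) N'.toSubmodule N'.toRepresentation rfl hc').trans (by omega)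
      exfalso
      push Not at hc hc'
      obtain ⟨g, hg⟩ := hρ
      apply hg
      ext v
      have hv : v ∈ N.toSubmodule ⊔ N'.toSubmodule := by rw [hsup]; exact Submodule.mem_top
      obtain ⟨a, ha, c, hc2, rfl⟩ := Submodule.mem_sup.1 hv
      have e1 : ρ g a = a := congrArg Subtype.val (LinearMap.congr_fun (hc g) ⟨a, ha⟩)
      have e2 : ρ g c = c := congrArg Subtype.val (LinearMap.congr_fun (hc' g) ⟨c, hc2⟩)
      rw [map_add, e1, e2]
      rfl
  intro M _ _ _ ρ hρ
  exact key _ M ρ rfl hρ

end Cfsg.Agent.H122
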