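import Cfsg.Agent.H122.OrthIso
import Cfsg.Agent.H122.OrthPlus
set_option linter.all false

-- part: H122/OrthBaseMinus
section
/-!
# The group `Ω⁻₄(q)` on its natural module and the minimal degree of `Ω⁻₆(q)`

`transN_HQ`: for an anisotropic binary form `A` the group `E (HQ A)` is transitive on the nonzero vectors of given
norm. `base_minus`: nontrivial representations of `E (HQ (HQ A))` have degree at least
`q ^ 3 - q ^ 2 + q - 1 = (q ^ 2 + 1) (q - 1)`.
-/

set_option autoImplicit false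
set_option linter.unusedSectionVars false

namespace Cfsg.Agent.H122.OrthBaseMinus

open QuadraticMap Module Cfsg.Agent.LieClassical.OrthCore Cfsg.Agent.LieClassical.OrthTrans
  Cfsg.Agent.LieClassical.OrthFinite Cfsg.Agent.LieClassical.OrthForms
  Cfsg.Agent.H122.OrthWt Cfsg.Agent.H122.OrthTy Cfsg.Agent.H122.OrthSum Cfsg.Agent.H122.OrthInt
  Cfsg.Agent.H122.OrthRep Cfsg.Agent.H122.OrthStep Cfsg.Agent.H122.OrthArith Cfsg.Agent.H122.OrthIso
  Cfsg.Agent.H122

/-! ### Transitivity -/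

section Trans

variable {F W : Type*} [Field F] [AddCommGroup W] [Module F W] (A : QuadraticForm F W)

/-- the Siegel transformation at the other end -/
def sf (w : W) : (W × F × F) ≃ₗ[F] (W × F × F) :=
  siegel (HQ A) (f0 F W) (em F w) (hyp0 A).right (by rw [polar_f0])

theorem sf_mem (w : W) : sf A w ∈ E (HQ A) := siegel_mem_E _ _

theorem sf_apply (w : W) (x : W × F × F) :
    sf A w x = (x.1 + x.2.1 • w, x.2.1, x.2.2 - polar A w x.1 - A w * x.2.1) := by
  rw [sf, siegel_apply, polar_f0, polar_em, HQ_em]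
  ext <;> simp

/-- in the same orbit -/
def Orb (v v' : W × F × F) : Prop := ∃ g ∈ E (HQ A), g v = v'

variable {A}

theorem Orb.refl (v : W × F × F) : Orb A v v := ⟨1, (E (HQ A)).one_mem, rfl⟩

theorem Orb.symm {v v' : W × F × F} (h : Orb A v v') : Orb A v' v := by
  obtain ⟨g, hg, rfl⟩ := h
  exact ⟨g⁻¹, (E (HQ A)).inv_mem hg, LinearEquiv.symm_apply_apply g v⟩

theorem Orb.trans {v v' v'' : W × F × F} (h : Orb A v v') (h' : Orb A v' v'') : Orb A v v'' := by
  obtain ⟨g, hg, rfl⟩ := h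
  obtain ⟨g', hg', rfl⟩ := h'
  exact ⟨g' * g, (E (HQ A)).mul_mem hg' hg, rfl⟩

theorem orb_sg (w : W) (v : W × F × F) : Orb A v (sg A w v) := ⟨_, sg_mem A w, rfl⟩

theorem orb_sf (w : W) (v : W × F × F) : Orb A v (sf A w v) := ⟨_, sf_mem A w, rfl⟩

theorem Orb.norm {v v' : W × F × F} (h : Orb A v v') : HQ A v' = HQ A v := by
  obtain ⟨g, hg, rfl⟩ := h
  exact mem_O.1 (E_le_O hg) v

/-- clearing the `W`-component with `t ≠ 0` -/
theorem orb_clear {v : W × F × F} (ht : v.2.2 ≠ 0) : ∃ s, Orb A v (0, s, v.2.2) := by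
  refine ⟨(sg A (-(v.2.2⁻¹ • v.1)) v).2.1, ?_⟩
  have h := orb_sg (A := A) (-(v.2.2⁻¹ • v.1)) v
  have h1 : sg A (-(v.2.2⁻¹ • v.1)) v = (0, (sg A (-(v.2.2⁻¹ • v.1)) v).2.1, v.2.2) := by
    rw [sg_apply]
    refine Prod.ext ?_ (Prod.ext rfl rfl)
    show v.1 + v.2.2 • -(v.2.2⁻¹ • v.1) = 0
    rw [smul_neg, smul_smul, mul_inv_cancel₀ ht, one_smul, add_neg_cancel]
  rw [← h1]
  exact h

theorem orb_clear' {v : W × F × F} (hs : v.2.1 ≠ 0) : ∃ t, Orb A v (0, v.2.1, t) := by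
  refine ⟨(sf A (-(v.2.1⁻¹ • v.1)) v).2.2, ?_⟩
  have h := orb_sf (A := A) (-(v.2.1⁻¹ • v.1)) v
  have h1 : sf A (-(v.2.1⁻¹ • v.1)) v = (0, v.2.1, (sf A (-(v.2.1⁻¹ • v.1)) v).2.2) := by
    rw [sf_apply]
    refine Prod.ext ?_ (Prod.ext rfl rfl)
    show v.1 + v.2.1 • -(v.2.1⁻¹ • v.1) = 0
    rw [smul_neg, smul_smul, mul_inv_cancel₀ hs, one_smul, add_neg_cancel]
  rw [← h1]
  exact h

theorem HQ_pair (s t : F) : HQ A ((0, s, t) : W × F × F) = s * t := by
  rw [HQ_apply]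
  show A 0 + s * t = s * t
  rw [QuadraticMap.map_zero, zero_add]

/-- the two kinds of standard singular vectors are in the same orbit -/
theorem orb_st (hU : ∀ c : F, c ≠ 0 → ∃ w, A w = c) {s t : F} (hs : s ≠ 0) (ht : t ≠ 0) :
    Orb A (0, s, 0) (0, 0, t) := by
  obtain ⟨w, hw⟩ := hU (-(t / s)) (neg_ne_zero.2 (div_ne_zero ht hs))
  have h1 := orb_sf (A := A) w (0, s, 0)
  have h2 := orb_sg (A := A) ((s / t) • w) (0, 0, t)
  have e1 : sf A w (0, s, 0) = (s • w, s, t) := by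
    rw [sf_apply, hw]
    refine Prod.ext ?_ (Prod.ext rfl ?_)
    · show 0 + s • w = s • w
      rw [zero_add]
    · show 0 - polar A w 0 - -(t / s) * s = t
      rw [polar_zero_right]
      field_simp
      ring
  have e2 : sg A ((s / t) • w) (0, 0, t) = (s • w, s, t) := by
    rw [sg_apply, QuadraticMap.map_smul, hw]
    refine Prod.ext ?_ (Prod.ext ?_ rfl)
    · show 0 + t • ((s / t) • w) = s • w
      rw [zero_add, smul_smul, mul_div_cancel₀ _ ht]
    · show 0 - polar A ((s / t) • w) 0 - ((s / t) * (s / t)) • (-(t / s)) * t = s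
      rw [polar_zero_right, smul_eq_mul]
      field_simp
      ring
  rw [e1] at h1
  rw [e2] at h2
  exact h1.trans h2.symm

theorem orb_ss (hU : ∀ c : F, c ≠ 0 → ∃ w, A w = c) {s s' : F} (hs : s ≠ 0) (hs' : s' ≠ 0) :
    Orb A (0, s, 0) (0, s', 0) := (orb_st hU hs one_ne_zero).trans (orb_st hU hs' one_ne_zero).symm

/-- the singular vectors -/
theorem orb_sing (hA : ∀ w, A w = 0 → w = 0) (hU : ∀ c : F, c ≠ 0 → ∃ w, A w = c) {v : W × F × F} (hv : v ≠ 0)
    (h0 : HQ A v = 0) : Orb A v (0, 1, 0) := by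
  by_cases ht : v.2.2 = 0
  · have h1 : A v.1 = 0 := by
      rw [HQ_apply, ht, mul_zero, add_zero] at h0
      exact h0
    have h2 := hA _ h1
    have h3 : v = (0, v.2.1, 0) := by
      refine Prod.ext h2 (Prod.ext rfl ht)
    have h4 : v.2.1 ≠ 0 := by
      intro h4
      apply hv
      rw [h3, h4]
      rfl
    rw [h3]
    exact orb_ss hU h4 one_ne_zero
  · obtain ⟨s, hs⟩ := orb_clear (A := A) ht
    have h1 := hs.norm
    rw [HQ_pair, h0] at h1
    have h2 := (mul_eq_zero.1 h1).resolve_right ht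
    rw [h2] at hs
    exact hs.trans (orb_st hU one_ne_zero ht).symm

/-- the nonsingular vectors -/
theorem orb_nonsing (hN : Nondeg A) (hU : ∀ c : F, c ≠ 0 → ∃ w, A w = c) {v : W × F × F} (h0 : HQ A v ≠ 0) :
    Orb A v (0, 1, HQ A v) := by
  set c := HQ A v with hc
  -- reduction to the vectors `(0, s, c / s)`
  have key : ∃ s t : F, s * t = c ∧ s ≠ 0 ∧ Orb A v (0, s, t) := by
    have key1 : ∀ v : W × F × F, HQ A v = c → v.2.2 ≠ 0 → ∃ s t : F, s * t = c ∧ s ≠ 0 ∧ Orb A v (0, s, t) := by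
      intro v hv ht
      obtain ⟨s, hs⟩ := orb_clear (A := A) ht
      have h1 := hs.norm
      rw [HQ_pair, hv] at h1
      refine ⟨s, v.2.2, h1, ?_, hs⟩
      rintro rfl
      rw [zero_mul] at h1
      exact h0 h1.symm
    by_cases hs : v.2.1 = 0
    · by_cases ht : v.2.2 = 0
      · have hv1 : v.1 ≠ 0 := by
          intro h1
          apply h0
          rw [hc, HQ_apply, h1, hs, zero_mul, QuadraticMap.map_zero, add_zero]
        obtain ⟨w, hw⟩ := hN.exists_polar_eq hv1 1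
        have h1 := orb_sf (A := A) w v
        have h2 : (sf A w v).2.2 ≠ 0 := by
          rw [sf_apply]
          show v.2.2 - polar A w v.1 - A w * v.2.1 ≠ 0
          rw [hs, ht, polar_comm, hw]
          simp
        obtain ⟨s, t, h3, h4, h5⟩ := key1 _ (h1.norm.trans hc.symm) h2
        exact ⟨s, t, h3, h4, h1.trans h5⟩
      · exact key1 v hc.symm ht
    · obtain ⟨t, ht⟩ := orb_clear' (A := A) hs
      have h1 := ht.norm
      rw [HQ_pair] at h1
      exact ⟨v.2.1, t, h1, hs, ht⟩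
  obtain ⟨s, t, hst, hs, ho⟩ := key
  refine ho.trans ?_
  obtain ⟨g, hg, hge⟩ := orb_ss (A := A) hU one_ne_zero hs
  have h1 : polar (HQ A) (g (0, 1, 0)) (g (f0 F W)) = 1 := by
    rw [polar_map (E_le_O hg)]
    exact (hyp0 A).pair
  have h2 : ((0, s, 0) : W × F × F) = s • e0 F W := by
    refine Prod.ext ?_ (Prod.ext ?_ ?_)
    · show (0 : W) = s • (0 : W)
      rw [smul_zero]
    · show s = s * 1
      rw [mul_one]
    · show (0 : F) = s * 0
      rw [mul_zero]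
  rw [hge, h2, polar_smul_left, polar_e0, smul_eq_mul] at h1
  have h3 : (g (f0 F W)).2.2 ≠ 0 := by
    intro h3
    rw [h3, mul_zero] at h1
    exact zero_ne_one h1
  set h := g (f0 F W) with hh
  set k := sg A (-(h.2.2⁻¹ • h.1)) with hk
  have h4 : k h = (0, 0, s⁻¹) := by
    have h5 : (k h).1 = 0 := by
      rw [hk, sg_apply]
      show h.1 + h.2.2 • -(h.2.2⁻¹ • h.1) = 0
      rw [smul_neg, smul_smul, mul_inv_cancel₀ h3, one_smul, add_neg_cancel]
    have h6 : (k h).2.2 = h.2.2 := by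
      rw [hk, sg_apply]
    have h7 : HQ A (k h) = 0 := by
      rw [mem_O.1 (E_le_O (sg_mem A _)), hh, mem_O.1 (E_le_O hg)]
      exact (hyp0 A).right
    rw [HQ_apply, h5, QuadraticMap.map_zero, zero_add, h6] at h7
    have h8 := (mul_eq_zero.1 h7).resolve_right h3
    refine Prod.ext h5 (Prod.ext h8 ?_)
    rw [h6]
    exact eq_inv_of_mul_eq_one_right h1
  refine Orb.symm ⟨k * g, (E (HQ A)).mul_mem (sg_mem A _) hg, ?_⟩
  have h9 : ((0, 1, c) : W × F × F) = e0 F W + c • f0 F W := by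
    refine Prod.ext ?_ (Prod.ext ?_ ?_)
    · show (0 : W) = 0 + c • (0 : W)
      rw [smul_zero, add_zero]
    · show (1 : F) = 1 + c * 0
      rw [mul_zero, add_zero]
    · show c = 0 + c * 1
      rw [mul_one, zero_add]
  show k (g (0, 1, c)) = (0, s, t)
  have h10 : g (e0 F W) = (0, s, 0) := hge
  rw [h9, map_add, map_smul, ← hh, h10, map_add, map_smul, h4]
  have h11 : k (0, s, 0) = (0, s, 0) := by
    rw [hk, sg_apply]
    refine Prod.ext ?_ (Prod.ext ?_ rfl)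
    · show (0 : W) + (0 : F) • _ = 0
      rw [zero_smul, add_zero]
    · show s - polar A _ 0 - _ * 0 = s
      rw [polar_zero_right, mul_zero, sub_zero, sub_zero]
  rw [h11]
  refine Prod.ext ?_ (Prod.ext ?_ ?_)
  · show (0 : W) + c • (0 : W) = 0
    rw [smul_zero, add_zero]
  · show s + c * 0 = s
    rw [mul_zero, add_zero]
  · show 0 + c * s⁻¹ = t
    rw [← hst, zero_add]
    field_simp

/-- `E (HQ A)` is transitive on the nonzero vectors of given norm, for an anisotropic universal form `A` -/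
theorem transN_HQ (hN : Nondeg A) (hA : ∀ w, A w = 0 → w = 0) (hU : ∀ c : F, c ≠ 0 → ∃ w, A w = c) :
    TransN (HQ A) := by
  intro v v' hv hv' h
  by_cases h0 : HQ A v = 0
  · exact (orb_sing hA hU hv h0).trans (orb_sing hA hU hv' (by rw [← h]; exact h0)).symm
  · have h1 := orb_nonsing hN hU h0
    have h2 := orb_nonsing hN hU (v := v') (by rw [← h]; exact h0)
    rw [← h] at h2
    exact h1.trans h2.symm

end Trans

/-! ### The minimal degree -/

section Base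

variable {F W : Type*} [Field F] [Fintype F] [AddCommGroup W] [Module F W] [Fintype W] {A : QuadraticForm F W}

open Classical in
theorem card_fib (hTy : Ty (-1) 1 A) (c : F) :
    ((Finset.univ.filter fun w : W => A w = c).card : ℂ) = (Fintype.card F : ℂ) + 1 - if c = 0 then (Fintype.card F : ℂ) else 0 := by
  have hq : (Fintype.card F : ℂ) ≠ 0 := by exact_mod_cast Fintype.card_ne_zero
  have h1 := hTy.sum (fun x => if x = c then 1 else 0)
  have h3 : Sm A (fun x => if x = c then (1 : ℂ) else 0) = ((Finset.univ.filter fun w : W => A w = c).card : ℂ) := by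
    rw [Sm, Finset.sum_ite, Finset.sum_const_zero, add_zero, Finset.sum_const, nsmul_eq_mul, mul_one]
  have h6 : Ph (fun x : F => if x = c then (1 : ℂ) else 0) = 1 := by
    rw [Ph, Finset.sum_ite_eq' Finset.univ c, if_pos (Finset.mem_univ _)]
  rw [h3, h6] at h1
  apply mul_left_cancel₀ hq
  rw [h1]
  by_cases hc : c = 0
  · rw [if_pos hc, if_pos hc.symm]
    push_cast
    ring
  · rw [if_neg hc, if_neg (fun h => hc h.symm)]
    push_cast
    ring

theorem aniso (hTy : Ty (-1) 1 A) : ∀ w, A w = 0 → w = 0 := by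
  classical
  intro w hw
  have h1 := card_fib hTy 0
  rw [if_pos rfl, add_sub_cancel_left] at h1
  have h2 : (Finset.univ.filter fun w : W => A w = 0).card = 1 := by exact_mod_cast h1
  obtain ⟨a, ha⟩ := Finset.card_eq_one.1 h2
  have h3 : w ∈ (Finset.univ.filter fun w : W => A w = 0) := Finset.mem_filter.2 ⟨Finset.mem_univ _, hw⟩
  have h4 : (0 : W) ∈ (Finset.univ.filter fun w : W => A w = 0) :=
    Finset.mem_filter.2 ⟨Finset.mem_univ _, QuadraticMap.map_zero A⟩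
  rw [ha, Finset.mem_singleton] at h3 h4
  rw [h3, h4]

theorem univ (hTy : Ty (-1) 1 A) : ∀ c : F, c ≠ 0 → ∃ w, A w = c := by
  classical
  intro c hc
  have h1 := card_fib hTy c
  rw [if_neg hc, sub_zero] at h1
  have h2 : (Finset.univ.filter fun w : W => A w = c).card = Fintype.card F + 1 := by exact_mod_cast h1
  obtain ⟨w, hw⟩ := Finset.card_pos.1 (by rw [h2]; omega)
  exact ⟨w, (Finset.mem_filter.1 hw).2⟩

theorem transN_minus (hTy : Ty (-1) 1 A) : TransN (HQ A) := transN_HQ hTy.nondeg (aniso hTy) (univ hTy)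

variable {M : Type*} [AddCommGroup M] [Module ℂ M] [FiniteDimensional ℂ M]
  (ρ : Representation ℂ (E (HQ (HQ A))) M)

/-- the degree of a nontrivial representation of `Ω⁻₆(q)` -/
theorem dim_minus (hTy : Ty (-1) 1 A) {ψ : AddChar F ℂ} (hψ : ψ ≠ 1) (hρ : ∃ g, ρ g ≠ 1) :
    1 ≤ ∑ c, fm A ρ ψ c ∧
    (finrank ℂ M : ℤ) = mu (HQ A) ρ ψ 0 + fm A ρ ψ 0 * (-(Fintype.card F : ℤ) ^ 2 - 1) +
      (∑ c, fm A ρ ψ c : ℕ) * ((Fintype.card F : ℤ) * ((Fintype.card F : ℤ) ^ 2 + 1)) := by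
  have hG : Good (HQ (HQ A)) := Ty.good hTy.up.up (by omega)
  have hT := transN_minus hTy
  refine ⟨exists_fm A ρ hG hTy.up.nondeg hT hψ hρ, ?_⟩
  have hq : (Fintype.card F : ℂ) ≠ 0 := by exact_mod_cast Fintype.card_ne_zero
  have h2 := finrank_eq A ρ hTy.up.nondeg hT hψ
  have h3 := hTy.up.sum (fun c => (fm A ρ ψ c : ℂ))
  have hPh : Ph (fun c => (fm A ρ ψ c : ℂ)) = ((∑ c, fm A ρ ψ c : ℕ) : ℂ) := by
    rw [Ph]; push_cast; rfl
  rw [hPh] at h3
  have h4 : Sm (HQ A) (fun c => (fm A ρ ψ c : ℂ)) = -(Fintype.card F : ℂ) ^ 2 * fm A ρ ψ 0 +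
      ((∑ c, fm A ρ ψ c : ℕ) : ℂ) * ((Fintype.card F : ℂ) * ((Fintype.card F : ℂ) ^ 2 + 1)) := by
    apply mul_left_cancel₀ hq
    rw [h3]
    push_cast
    ring
  rw [h4] at h2
  have h5 : (finrank ℂ M : ℂ) = ((mu (HQ A) ρ ψ 0 + fm A ρ ψ 0 * (-(Fintype.card F : ℤ) ^ 2 - 1) +
      (∑ c, fm A ρ ψ c : ℕ) * ((Fintype.card F : ℤ) * ((Fintype.card F : ℤ) ^ 2 + 1)) : ℤ) : ℂ) := by
    rw [h2]
    push_cast
    ring
  exact_mod_cast h5

end Base

/-- the minimal degree of `Ω⁻₆(q)`: the bound `(q ^ 2 + 1) (q - 1)` -/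
theorem base_minus {F W : Type*} [Field F] [Fintype F] [AddCommGroup W] [Module F W] [Fintype W]
    {A : QuadraticForm F W} (hTy : Ty (-1) 1 A) :
    MinDeg (E (HQ (HQ A))) (Bm (-1) (Fintype.card F) 0 - 1).toNat := by
  obtain ⟨ψ, hψ⟩ := OrthRed.exists_psi F
  intro M _ _ _ ρ hρ
  obtain ⟨h1, h2⟩ := dim_minus ρ hTy hψ hρ
  rw [Int.toNat_le, h2]
  have hf0 : fm A ρ ψ 0 ≤ ∑ c, fm A ρ ψ c :=
    Finset.single_le_sum (f := fun c => fm A ρ ψ c) (fun _ _ => Nat.zero_le _) (Finset.mem_univ 0)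
  generalize fm A ρ ψ 0 = f at *
  generalize ∑ c, fm A ρ ψ c = S at *
  have hq : (2 : ℤ) ≤ (Fintype.card F : ℤ) := by
    have : 1 < Fintype.card F := Fintype.one_lt_card
    omega
  have h0 : (0 : ℤ) ≤ (mu (HQ A) ρ ψ 0 : ℤ) := by positivity
  generalize (mu (HQ A) ρ ψ 0 : ℤ) = t at *
  generalize (Fintype.card F : ℤ) = q at *
  show q ^ 3 + -1 * q ^ 2 + q - 1 ≤ _
  have hfS : (f : ℤ) ≤ (S : ℤ) := by exact_mod_cast hf0
  have hS1 : (1 : ℤ) ≤ (S : ℤ) := by exact_mod_cast h1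
  have h3 : (S : ℤ) * (-q ^ 2 - 1) ≤ (f : ℤ) * (-q ^ 2 - 1) := mul_le_mul_of_nonpos_right hfS (by nlinarith)
  have h4 : 1 * ((q ^ 2 + 1) * (q - 1)) ≤ (S : ℤ) * ((q ^ 2 + 1) * (q - 1)) :=
    mul_le_mul_of_nonneg_right hS1 (mul_nonneg (by positivity) (by linarith))
  nlinarith

end Cfsg.Agent.H122.OrthBaseMinus
end

-- part: H122/OrthSwap
section
/-!
# Swapping two orthogonal hyperbolic planes in characteristic two

`sw` swaps the vectors `x ↔ y` and `x' ↔ y'` of two orthogonal hyperbolic pairs, and fixes everything orthogonal to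
them. For `V = HQ (HQ (HQ A))` the elements `T` (swapping the outer two planes) and `theta` (swapping the inner two)
satisfy the braid relation, and `T` exchanges the Siegel elements of the first two levels.
-/

set_option autoImplicit false
set_option linter.unusedSectionVars false

namespace Cfsg.Agent.H122.OrthSwap

open QuadraticMap Module Cfsg.Agent.LieClassical.OrthCore Cfsg.Agent.LieClassical.OrthTrans
  Cfsg.Agent.H122.OrthWt Cfsg.Agent.H122

section Swap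

variable {F V : Type*} [Field F] [AddCommGroup V] [Module F V] {Q : QuadraticForm F V}

/-- two orthogonal hyperbolic pairs -/
structure Quad (Q : QuadraticForm F V) (x x' y y' : V) : Prop where
  hx : Hyp Q x x'
  hy : Hyp Q y y'
  xy : polar Q x y = 0
  xy' : polar Q x y' = 0
  x'y : polar Q x' y = 0
  x'y' : polar Q x' y' = 0

variable {x x' y y' : V}

theorem Quad.left (h : Quad Q x x' y y') : Q (x + y) = 0 := by
  rw [Q_add, h.hx.left, h.hy.left, h.xy, add_zero, add_zero]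

theorem Quad.right (h : Quad Q x x' y y') : Q (x' + y') = 0 := by
  rw [Q_add, h.hx.right, h.hy.right, h.x'y', add_zero, add_zero]

theorem Quad.pol (h2 : (1 : F) + 1 = 0) (h : Quad Q x x' y y') : polar Q (x + y) (x' + y') = 0 := by
  rw [polar_add_left, polar_add_right, polar_add_right, h.hx.pair, h.hy.pair, h.xy', polar_comm Q y x', h.x'y,
    add_zero, zero_add, h2]

/-- the swap -/
def sw (h2 : (1 : F) + 1 = 0) (h : Quad Q x x' y y') : V ≃ₗ[F] V := siegel Q (x + y) (x' + y') h.left (h.pol h2)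

theorem sw_mem (h2 : (1 : F) + 1 = 0) (h : Quad Q x x' y y') : sw h2 h ∈ E Q := siegel_mem_E _ _

theorem neg_self (h2 : (1 : F) + 1 = 0) (v : V) : -v = v := by
  have h : v + v = 0 := by
    have : v + v = ((1 : F) + 1) • v := by rw [add_smul, one_smul]
    rw [this, h2, zero_smul]
  exact neg_eq_of_add_eq_zero_left h

theorem sw_apply (h2 : (1 : F) + 1 = 0) (h : Quad Q x x' y y') (v : V) :
    sw h2 h v = v + (polar Q x v + polar Q y v) • (x' + y') - (polar Q x' v + polar Q y' v) • (x + y) := by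
  rw [sw, siegel_apply, h.right, zero_mul, zero_smul, sub_zero, polar_add_left, polar_add_left]

theorem sw_x (h2 : (1 : F) + 1 = 0) (h : Quad Q x x' y y') : sw h2 h x = y := by
  rw [sw_apply, h.hx.polar_left, polar_comm Q y x, h.xy, h.hx.pair', polar_comm Q y' x, h.xy']
  have : x + (0 + 0 : F) • (x' + y') - (1 + 0 : F) • (x + y) = -y := by module
  rw [this, neg_self h2]

theorem sw_y (h2 : (1 : F) + 1 = 0) (h : Quad Q x x' y y') : sw h2 h y = x := by
  rw [sw_apply, h.hy.polar_left, h.xy, h.x'y, h.hy.pair']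
  have : y + (0 + 0 : F) • (x' + y') - (0 + 1 : F) • (x + y) = -x := by module
  rw [this, neg_self h2]

theorem sw_x' (h2 : (1 : F) + 1 = 0) (h : Quad Q x x' y y') : sw h2 h x' = y' := by
  rw [sw_apply, h.hx.pair, polar_comm Q y x', h.x'y, h.hx.polar_right, polar_comm Q y' x', h.x'y']
  have : x' + (1 + 0 : F) • (x' + y') - (0 + 0 : F) • (x + y) = y' + (x' + x') := by module
  rw [this]
  have h3 : x' + x' = 0 := by
    have := neg_self h2 x'
    nth_rewrite 1 [← this]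
    exact neg_add_cancel x'
  rw [h3, add_zero]

theorem sw_y' (h2 : (1 : F) + 1 = 0) (h : Quad Q x x' y y') : sw h2 h y' = x' := by
  rw [sw_apply, h.xy', h.hy.pair, h.x'y', h.hy.polar_right]
  have : y' + (0 + 1 : F) • (x' + y') - (0 + 0 : F) • (x + y) = x' + (y' + y') := by module
  rw [this]
  have h3 : y' + y' = 0 := by
    have := neg_self h2 y'
    nth_rewrite 1 [← this]
    exact neg_add_cancel y'
  rw [h3, add_zero]

theorem sw_fix (h2 : (1 : F) + 1 = 0) (h : Quad Q x x' y y') {v : V} (h3 : polar Q x v = 0) (h4 : polar Q y v = 0)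
    (h5 : polar Q x' v = 0) (h6 : polar Q y' v = 0) : sw h2 h v = v := by
  rw [sw_apply, h3, h4, h5, h6]
  module

theorem sw_sw (h2 : (1 : F) + 1 = 0) (h : Quad Q x x' y y') : sw h2 h * sw h2 h = 1 := by
  have h3 : (x' + y') + (x' + y') = 0 := by
    have := neg_self h2 (x' + y')
    nth_rewrite 1 [← this]
    exact neg_add_cancel _
  have h4 : polar Q (x + y) ((x' + y') + (x' + y')) = 0 := by rw [h3, polar_zero_right]
  rw [sw, siegel_mul h.left (h.pol h2) (h.pol h2) h4]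
  ext v
  rw [siegel_apply, h3]
  simp

theorem siegel_conj' {t : V ≃ₗ[F] V} (ht : t ∈ O Q) {u w u' w' : V} (hu : Q u = 0) (hw : polar Q u w = 0)
    (e1 : t u = u') (e2 : t w = w') (hu' : Q u' = 0) (hw' : polar Q u' w' = 0) :
    t * siegel Q u w hu hw * t⁻¹ = siegel Q u' w' hu' hw' := by
  subst e1 e2
  exact siegel_conj ht hu hw hu' hw'

/-- Siegel elements at orthogonal singular vectors -/
theorem siegel_comm (h2 : (1 : F) + 1 = 0) {u w : V} (hu : Q u = 0) (hw : Q w = 0) (h : polar Q u w = 0)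
    (h' : polar Q w u = 0) : siegel Q u w hu h = siegel Q w u hw h' := by
  ext v
  rw [siegel_apply, siegel_apply, hu, hw]
  have h3 : ∀ a : V, a + a = 0 := fun a => by
    have := neg_self h2 a
    nth_rewrite 1 [← this]
    exact neg_add_cancel a
  have h4 : v + polar Q u v • w - polar Q w v • u - (0 * polar Q u v) • u -
      (v + polar Q w v • u - polar Q u v • w - (0 * polar Q w v) • w) =
      (polar Q u v • w + polar Q u v • w) - (polar Q w v • u + polar Q w v • u) := by module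
  rw [h3, h3, sub_zero] at h4
  exact sub_eq_zero.1 h4

end Swap

section Double

variable {F U : Type*} [Field F] [AddCommGroup U] [Module F U] (B : QuadraticForm F U)

/-- the two hyperbolic pairs of `HQ (HQ B)` -/
theorem quad2 : Quad (HQ (HQ B)) (e0 F (U × F × F)) (f0 F (U × F × F)) (em F (e0 F U)) (em F (f0 F U)) where
  hx := hyp0 (HQ B)
  hy := ⟨by rw [HQ_em]; exact (hyp0 B).left, by rw [HQ_em]; exact (hyp0 B).right,
    by rw [polar_em_em]; exact (hyp0 B).pair⟩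
  xy := by rw [polar_e0]
  xy' := by rw [polar_e0]
  x'y := by rw [polar_f0]
  x'y' := by rw [polar_f0]

/-- the swap of the two planes -/
def T (h2 : (1 : F) + 1 = 0) : E (HQ (HQ B)) := ⟨sw h2 (quad2 B), sw_mem h2 (quad2 B)⟩

theorem T_val (h2 : (1 : F) + 1 = 0) : (T B h2).1 = sw h2 (quad2 B) := rfl

theorem T_mul_T (h2 : (1 : F) + 1 = 0) : T B h2 * T B h2 = 1 := Subtype.ext (sw_sw h2 (quad2 B))

theorem T_inv (h2 : (1 : F) + 1 = 0) : (T B h2)⁻¹ = T B h2 := inv_eq_of_mul_eq_one_left (T_mul_T B h2)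

/-- the swap of the outer planes exchanges the Siegel elements of the first two levels -/
theorem T_sE (h2 : (1 : F) + 1 = 0) (w : U) :
    T B h2 * sE (HQ B) (em F w) = extE (HQ B) (sE B w) * T B h2 := by
  rw [← mul_inv_eq_iff_eq_mul]
  apply Subtype.ext
  show sw h2 (quad2 B) * sg (HQ B) (em F w) * (sw h2 (quad2 B))⁻¹ = ext (sg B w)
  have hO := E_le_O (sw_mem h2 (quad2 B))
  have hu : HQ (HQ B) (sw h2 (quad2 B) (e0 F (U × F × F))) = 0 := by
    rw [mem_O.1 hO]; exact (quad2 B).hx.left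
  have hw : polar (HQ (HQ B)) (sw h2 (quad2 B) (e0 F (U × F × F))) (sw h2 (quad2 B) (em F (em F w))) = 0 := by
    rw [polar_map hO, polar_e0]
  rw [sg, sg, siegel_conj hO (hyp0 (HQ B)).left (polar_e0_em (HQ B) (em F w)) hu hw,
    ext_siegel (HQ B) (hyp0 B).left (polar_e0_em B w)]
  have e1 := sw_x h2 (quad2 B)
  have e2 : sw h2 (quad2 B) (em F (em F w)) = em F (em F w) := by
    apply sw_fix
    · rw [polar_e0]
    · rw [polar_em, polar_e0]
    · rw [polar_f0]
    · rw [polar_em, polar_f0]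
  congr 1

theorem T_extE (h2 : (1 : F) + 1 = 0) (w : U) :
    T B h2 * extE (HQ B) (sE B w) = sE (HQ B) (em F w) * T B h2 := by
  have h := T_sE B h2 w
  have h3 : T B h2 * (T B h2 * sE (HQ B) (em F w)) * T B h2 = T B h2 * (extE (HQ B) (sE B w) * T B h2) * T B h2 := by
    rw [h]
  rw [← mul_assoc, T_mul_T, one_mul] at h3
  rw [h3, mul_assoc, mul_assoc, T_mul_T, mul_one]

theorem T_sE_e0 (h2 : (1 : F) + 1 = 0) : T B h2 * sE (HQ B) (e0 F U) = sE (HQ B) (e0 F U) * T B h2 := by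
  rw [← mul_inv_eq_iff_eq_mul]
  apply Subtype.ext
  show sw h2 (quad2 B) * sg (HQ B) (e0 F U) * (sw h2 (quad2 B))⁻¹ = sg (HQ B) (e0 F U)
  have hO := E_le_O (sw_mem h2 (quad2 B))
  have hu : HQ (HQ B) (sw h2 (quad2 B) (e0 F (U × F × F))) = 0 := by
    rw [mem_O.1 hO]; exact (quad2 B).hx.left
  have hw : polar (HQ (HQ B)) (sw h2 (quad2 B) (e0 F (U × F × F))) (sw h2 (quad2 B) (em F (e0 F U))) = 0 := by
    rw [polar_map hO, polar_e0]
  rw [sg, siegel_conj hO (hyp0 (HQ B)).left (polar_e0_em (HQ B) (e0 F U)) hu hw]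
  have e1 := sw_x h2 (quad2 B)
  have e2 := sw_y h2 (quad2 B)
  have h3 : polar (HQ (HQ B)) (em F (e0 F U)) (e0 F (U × F × F)) = 0 := by
    rw [polar_comm]; exact (quad2 B).xy
  rw [siegel_comm h2 (hyp0 (HQ B)).left (quad2 B).hy.left (quad2 B).xy h3]
  congr 1

end Double

section Triple

variable {F U : Type*} [Field F] [AddCommGroup U] [Module F U] (B : QuadraticForm F U)

/-- the swap of the inner planes of `HQ (HQ (HQ B))` -/
def theta (h2 : (1 : F) + 1 = 0) : E (HQ (HQ (HQ B))) := extE (HQ (HQ B)) (T B h2)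

theorem theta_mul_theta (h2 : (1 : F) + 1 = 0) : theta B h2 * theta B h2 = 1 := by
  rw [theta, ← map_mul, T_mul_T, map_one]

theorem theta_val (h2 : (1 : F) + 1 = 0) : (theta B h2).1 = ext (sw h2 (quad2 B)) := rfl

/-- the braid relation -/
theorem braid (h2 : (1 : F) + 1 = 0) :
    T (HQ B) h2 * theta B h2 * (T (HQ B) h2)⁻¹ = theta B h2 * T (HQ B) h2 * (theta B h2)⁻¹ := by
  apply Subtype.ext
  show sw h2 (quad2 (HQ B)) * ext (sw h2 (quad2 B)) * (sw h2 (quad2 (HQ B)))⁻¹ =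
    ext (sw h2 (quad2 B)) * sw h2 (quad2 (HQ B)) * (ext (sw h2 (quad2 B)))⁻¹
  have hO := E_le_O (sw_mem h2 (quad2 (HQ B)))
  have hO' := ext_mem_O (HQ (HQ B)) (E_le_O (sw_mem h2 (quad2 B)))
  have hu1 : HQ (HQ (HQ B)) (em F (e0 F (U × F × F) + em F (e0 F U))) = 0 := by
    rw [HQ_em]; exact (quad2 B).left
  have hw1 : polar (HQ (HQ (HQ B))) (em F (e0 F (U × F × F) + em F (e0 F U)))
      (em F (f0 F (U × F × F) + em F (f0 F U))) = 0 := by
    rw [polar_em_em]; exact (quad2 B).pol h2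
  have hex : ext (sw h2 (quad2 B)) = siegel (HQ (HQ (HQ B))) (em F (e0 F (U × F × F) + em F (e0 F U)))
      (em F (f0 F (U × F × F) + em F (f0 F U))) hu1 hw1 := ext_siegel (HQ (HQ B)) (quad2 B).left ((quad2 B).pol h2)
  have t1 : sw h2 (quad2 (HQ B)) (em F (e0 F (U × F × F))) = e0 F ((U × F × F) × F × F) := sw_y h2 (quad2 (HQ B))
  have t2 : sw h2 (quad2 (HQ B)) (em F (f0 F (U × F × F))) = f0 F ((U × F × F) × F × F) := sw_y' h2 (quad2 (HQ B))
  have t3 : sw h2 (quad2 (HQ B)) (em F (em F (e0 F U))) = em F (em F (e0 F U)) := by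
    apply sw_fix
    · rw [polar_e0]
    · rw [polar_em, polar_e0]
    · rw [polar_f0]
    · rw [polar_em, polar_f0]
  have t4 : sw h2 (quad2 (HQ B)) (em F (em F (f0 F U))) = em F (em F (f0 F U)) := by
    apply sw_fix
    · rw [polar_e0]
    · rw [polar_em, polar_e0]
    · rw [polar_f0]
    · rw [polar_em, polar_f0]
  have s1 : ext (sw h2 (quad2 B)) (em F (e0 F (U × F × F))) = em F (em F (e0 F U)) := by
    rw [ext_em, sw_x h2 (quad2 B)]
  have s2 : ext (sw h2 (quad2 B)) (em F (f0 F (U × F × F))) = em F (em F (f0 F U)) := by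
    rw [ext_em, sw_x' h2 (quad2 B)]
  have s3 : ext (sw h2 (quad2 B)) (e0 F ((U × F × F) × F × F)) = e0 F ((U × F × F) × F × F) := by
    rw [ext_apply]
    refine Prod.ext ?_ rfl
    exact map_zero _
  have s4 : ext (sw h2 (quad2 B)) (f0 F ((U × F × F) × F × F)) = f0 F ((U × F × F) × F × F) := by
    rw [ext_apply]
    refine Prod.ext ?_ rfl
    exact map_zero _
  have hc1 : HQ (HQ (HQ B)) (e0 F ((U × F × F) × F × F) + em F (em F (e0 F U))) = 0 := by
    rw [Q_add, HQ_em, HQ_em, (hyp0 B).left, (hyp0 (HQ (HQ B))).left, polar_e0, add_zero, add_zero]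
  have hc2 : polar (HQ (HQ (HQ B))) (e0 F ((U × F × F) × F × F) + em F (em F (e0 F U)))
      (f0 F ((U × F × F) × F × F) + em F (em F (f0 F U))) = 0 := by
    rw [polar_add_left, polar_add_right, polar_add_right, (hyp0 (HQ (HQ B))).pair, polar_e0, polar_em,
      polar_em_em, polar_em_em, (hyp0 B).pair, polar_zero_right, add_zero, zero_add, h2]
  have E1 : ext (sw h2 (quad2 B)) * sw h2 (quad2 (HQ B)) * (ext (sw h2 (quad2 B)))⁻¹ =
      siegel (HQ (HQ (HQ B))) _ _ hc1 hc2 :=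
    siegel_conj' hO' (quad2 (HQ B)).left ((quad2 (HQ B)).pol h2)
      (by rw [map_add, s3, s1]) (by rw [map_add, s4, s2]) hc1 hc2
  have E2 : sw h2 (quad2 (HQ B)) * ext (sw h2 (quad2 B)) * (sw h2 (quad2 (HQ B)))⁻¹ =
      siegel (HQ (HQ (HQ B))) _ _ hc1 hc2 := by
    rw [hex]
    exact siegel_conj' hO hu1 hw1 (by rw [em_add, map_add, t1, t3]) (by rw [em_add, map_add, t2, t4]) hc1 hc2
  rw [E1, E2]

end Triple

end Cfsg.Agent.H122.OrthSwap
end

-- part: H122/OrthTwo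
section
/-!
# `Ω⁻₈(2)` has no nontrivial representation of degree 32
-/

set_option autoImplicit false
set_option linter.unusedSectionVars false

namespace Cfsg.Agent.H122.OrthTwo

open QuadraticMap Module Cfsg.Agent.LieClassical.OrthCore Cfsg.Agent.LieClassical.OrthTrans
  Cfsg.Agent.LieClassical.OrthFinite Cfsg.Agent.H121.Wt Cfsg.Agent.H121.Chr
  Cfsg.Agent.H122.OrthWt Cfsg.Agent.H122.OrthTy Cfsg.Agent.H122.OrthSum Cfsg.Agent.H122.OrthInt
  Cfsg.Agent.H122.OrthRep Cfsg.Agent.H122.OrthStep Cfsg.Agent.H122.OrthArith Cfsg.Agent.H122.OrthIso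
  Cfsg.Agent.H122.OrthTriv Cfsg.Agent.H122.OrthBaseMinus Cfsg.Agent.H122.OrthSwap Cfsg.Agent.H122

/-! ### Projections -/

section Pr

variable {A : Type*} [AddCommGroup A] [Fintype A] {V : Type*} [AddCommGroup V] [Module ℂ V] {R : A → Module.End ℂ V}

theorem pr_R (h : IsAct R) (χ : AddChar A ℂ) (a : A) (v : V) : pr R χ (R a v) = χ a • pr R χ v := by
  rw [← pr_mem h χ v a, pr_apply, pr_apply, map_smul, map_sum]
  congr 1
  refine Finset.sum_congr rfl fun b _ => ?_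
  rw [map_smul, ← Module.End.mul_apply, ← Module.End.mul_apply, ← h.add, ← h.add, add_comm]

theorem eq_of_pr_ne (h : IsAct R) {χ : AddChar A ℂ} {a : A} {v : V} {c : ℂ} (hv : R a v = c • v)
    (hne : pr R χ v ≠ 0) : χ a = c := by
  have h1 := pr_R h χ a v
  rw [hv, map_smul] at h1
  have h2 : (χ a - c) • pr R χ v = 0 := by rw [sub_smul, h1, sub_self]
  rcases smul_eq_zero.1 h2 with h3 | h3
  · exact sub_eq_zero.1 h3
  · exact absurd h3 hne

theorem eq_sum_pr (h : IsAct R) (v : V) : v = ∑ χ : AddChar A ℂ, pr R χ v := by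
  have h1 := LinearMap.congr_fun (sum_pr h) v
  rw [LinearMap.sum_apply, Module.End.one_apply] at h1
  exact h1.symm

end Pr

section Comm

variable {F W : Type*} [Field F] [AddCommGroup W] [Module F W] [Fintype W] (Q : QuadraticForm F W)
  {M : Type*} [AddCommGroup M] [Module ℂ M] (ρ : Representation ℂ (E (HQ Q)) M)

/-- the projection to the fixed space commutes with the Levi factor -/
theorem pr_extE (g : E Q) (v : M) :
    ρ (extE Q g) (pr (RR Q ρ) 1 v) = pr (RR Q ρ) 1 (ρ (extE Q g) v) := by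
  rw [pr_apply, pr_apply, map_smul, map_sum]
  congr 1
  refine Fintype.sum_equiv g.1.toEquiv _ _ fun w => ?_
  rw [map_smul, ← Module.End.mul_apply, ← map_mul, extE_mul_sE, map_mul, Module.End.mul_apply]
  rfl

end Comm

/-! ### The field with two elements -/

section Two

variable {F : Type*} [Field F] [Fintype F]

theorem zero_or_one (hF : Fintype.card F = 2) (x : F) : x = 0 ∨ x = 1 := by
  classical
  by_contra hcon
  push Not at hcon
  have h1 : ({0, 1, x} : Finset F).card = 3 := by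
    rw [Finset.card_eq_three]
    exact ⟨0, 1, x, zero_ne_one, hcon.1.symm, hcon.2.symm, rfl⟩
  have h2 := Finset.card_le_univ ({0, 1, x} : Finset F)
  omega

theorem one_add_one (hF : Fintype.card F = 2) : (1 : F) + 1 = 0 := by
  rcases zero_or_one hF ((1 : F) + 1) with h | h
  · exact h
  · exact absurd (add_eq_left.1 h) one_ne_zero

theorem psi_one (hF : Fintype.card F = 2) {ψ : AddChar F ℂ} (hψ : ψ ≠ 1) {x : F} (hx : ψ x = 1) : x = 0 := by
  rcases zero_or_one hF x with h | h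
  · exact h
  · exfalso
    apply hψ
    rw [h] at hx
    ext y
    rcases zero_or_one hF y with h' | h'
    · rw [h', AddChar.map_zero_eq_one, AddChar.map_zero_eq_one]
    · rw [h', hx]; rfl

end Two

section Main

variable {F W : Type*} [Field F] [Fintype F] [AddCommGroup W] [Module F W] [Fintype W]
  {A : QuadraticForm F W} {M : Type} [AddCommGroup M] [Module ℂ M] [FiniteDimensional ℂ M]
  (ρ : Representation ℂ (E (HQ (HQ (HQ A)))) M)

/-- the fixed space of the unipotent radical -/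
abbrev V' : Submodule ℂ M := wt (RR (HQ (HQ A)) ρ) 1

/-- the weights of a vector -/
theorem weights (h2 : (1 : F) + 1 = 0) {ψ : AddChar F ℂ} (hN : Nondeg (HQ A)) (hψ1 : ψ ≠ 1)
    (hψ : ∀ x : F, ψ x = 1 → x = 0) {k : V' ρ} (hk : k ∈ ws (HQ A) (fixRep (HQ (HQ A)) ρ) ψ (e0 F W))
    {l : (W × F × F) × F × F} (hl : pr (RR (HQ (HQ A)) ρ) (ch (HQ (HQ A)) ψ l) (ρ (T (HQ A) h2) (k : M)) ≠ 0) :
    l.1 = e0 F W ∧ l.2.2 = 0 := by
  have hact := isAct (HQ (HQ A)) ρ
  constructor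
  · apply ch_injective (HQ A) hN hψ1
    ext w
    have h3 : RR (HQ (HQ A)) ρ (em F w) (ρ (T (HQ A) h2) (k : M)) =
        (ch (HQ A) ψ (e0 F W) w) • ρ (T (HQ A) h2) (k : M) := by
      show ρ (sE (HQ (HQ A)) (em F w)) (ρ (T (HQ A) h2) (k : M)) = _
      rw [← Module.End.mul_apply, ← map_mul, ← T_extE (HQ A) h2 w, map_mul, Module.End.mul_apply]
      have h4 := congrArg Subtype.val (hk w)
      have h5 : ρ (extE (HQ (HQ A)) (sE (HQ A) w)) (k : M) = (ch (HQ A) ψ (e0 F W) w) • (k : M) := h4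
      rw [h5, map_smul]
    have h4 := eq_of_pr_ne hact h3 hl
    rw [← h4]
    show ψ (polar (HQ A) l.1 w) = ψ (polar (HQ (HQ A)) l (em F w))
    rw [polar_comm (HQ (HQ A)) l, polar_em, polar_comm]
  · apply hψ
    have h3 : RR (HQ (HQ A)) ρ (e0 F (W × F × F)) (ρ (T (HQ A) h2) (k : M)) =
        (1 : ℂ) • ρ (T (HQ A) h2) (k : M) := by
      show ρ (sE (HQ (HQ A)) (e0 F (W × F × F))) (ρ (T (HQ A) h2) (k : M)) = _
      rw [← Module.End.mul_apply, ← map_mul, ← T_sE_e0 (HQ A) h2, map_mul, Module.End.mul_apply]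
      have h4 := k.2 (e0 F (W × F × F))
      have h5 : ρ (sE (HQ (HQ A)) (e0 F (W × F × F))) (k : M) = (1 : ℂ) • (k : M) := h4
      rw [h5, map_smul]
    have h4 := eq_of_pr_ne hact h3 hl
    rw [← h4]
    show ψ l.2.2 = ψ (polar (HQ (HQ A)) l (e0 F (W × F × F)))
    rw [polar_comm, polar_e0]

/-- no component in the fixed space -/
theorem pr_T_eq_zero (h2 : (1 : F) + 1 = 0) {ψ : AddChar F ℂ} (hN : Nondeg (HQ A)) (hψ1 : ψ ≠ 1)
    (hψ : ∀ x : F, ψ x = 1 → x = 0) {k : V' ρ} (hk : k ∈ ws (HQ A) (fixRep (HQ (HQ A)) ρ) ψ (e0 F W)) :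
    pr (RR (HQ (HQ A)) ρ) 1 (ρ (T (HQ A) h2) (k : M)) = 0 := by
  by_contra hne
  have h3 := weights ρ h2 hN hψ1 hψ hk (l := 0) (by rw [ch_zero]; exact hne)
  have h4 := congrArg (fun x : W × F × F => x.2.1) h3.1
  simp at h4

/-- the characterisation of the weight space by one root element -/
theorem mem_ws_of_fix (hTy : Ty (-1) 1 A) {ψ : AddChar F ℂ} (hF : Fintype.card F = 2) (hψ1 : ψ ≠ 1)
    {V : Type*} [AddCommGroup V] [Module ℂ V] [FiniteDimensional ℂ V] (σ : Representation ℂ (E (HQ (HQ A))) V)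
    (hmu : mu (HQ A) σ ψ 0 = 0) (hfm : ∀ c ≠ 0, fm A σ ψ c = 0) {v : V} (hv : σ (sE (HQ A) (e0 F W)) v = v) :
    v ∈ ws (HQ A) σ ψ (e0 F W) := by
  classical
  have hact := isAct (HQ A) σ
  have hN : Nondeg (HQ A) := hTy.up.nondeg
  have h1 : v = pr (RR (HQ A) σ) (ch (HQ A) ψ (e0 F W)) v := by
    nth_rewrite 1 [eq_sum_pr hact v]
    refine Finset.sum_eq_single _ ?_ (fun h => absurd (Finset.mem_univ _) h)
    intro χ _ hχ
    by_contra hne
    obtain ⟨l, rfl⟩ := (chEquiv (HQ A) hN hψ1).surjective χ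
    rw [chEquiv_apply] at hne hχ
    apply hχ
    congr 1
    have h3 : l.2.2 = 0 := by
      apply psi_one hF hψ1
      have h4 := eq_of_pr_ne hact (c := 1) (by rw [one_smul]; exact hv) hne
      rw [← h4]
      show ψ l.2.2 = ψ (polar (HQ A) l (e0 F W))
      rw [polar_comm, polar_e0]
    have h4 : mu (HQ A) σ ψ l ≠ 0 := by
      intro h4
      have h5 : ws (HQ A) σ ψ l = ⊥ := Submodule.finrank_eq_zero.1 h4
      have h6 := pr_mem hact (ch (HQ A) ψ l) v
      have h7 : pr (RR (HQ A) σ) (ch (HQ A) ψ l) v ∈ ws (HQ A) σ ψ l := h6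
      rw [h5, Submodule.mem_bot] at h7
      exact hne h7
    have h5 : l ≠ 0 := by
      rintro rfl
      exact h4 hmu
    have h6 := mu_eq_fm A σ (transN_minus hTy) ψ h5
    have h7 : HQ A l = 0 := by
      by_contra h7
      exact h4 (by rw [h6, hfm _ h7])
    rw [HQ_apply, h3, mul_zero, add_zero] at h7
    have h8 := aniso hTy _ h7
    refine Prod.ext h8 (Prod.ext ?_ h3)
    rcases zero_or_one hF l.2.1 with h9 | h9
    · exfalso
      apply h5
      exact Prod.ext h8 (Prod.ext h9 h3)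
    · exact h9
  rw [h1]
  exact pr_mem hact _ v

/-- the contradiction -/
theorem main_two (hF : Fintype.card F = 2) (hTy : Ty (-1) 1 A) {ψ : AddChar F ℂ} (hψ1 : ψ ≠ 1)
    (hfm : fm (HQ A) ρ ψ 0 = 1) (hmu' : mu (HQ A) (fixRep (HQ (HQ A)) ρ) ψ 0 = 0)
    (hfm0 : fm A (fixRep (HQ (HQ A)) ρ) ψ 0 = 1) (hfm' : ∀ c ≠ 0, fm A (fixRep (HQ (HQ A)) ρ) ψ c = 0) : False := by
  classical
  have h2 : (1 : F) + 1 = 0 := one_add_one hF
  have hN : Nondeg (HQ A) := hTy.up.nondeg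
  have hN2 : Nondeg (HQ (HQ A)) := hTy.up.up.nondeg
  have hT : TransN (HQ (HQ A)) := transN_of_good _ (Ty.good hTy.up.up (by omega))
  have hψ : ∀ x : F, ψ x = 1 → x = 0 := fun x => psi_one hF hψ1
  have hact := isAct (HQ (HQ A)) ρ
  have hact' := isAct (HQ A) (fixRep (HQ (HQ A)) ρ)
  have hnt : Nontrivial W := Module.nontrivial_of_finrank_pos (R := F) (by rw [Ty.finrank hTy]; omega)
  have hm1 : (-1 : F) = 1 := by linear_combination -h2
  -- the vector `k`
  obtain ⟨k, hk, hk0⟩ : ∃ k ∈ ws (HQ A) (fixRep (HQ (HQ A)) ρ) ψ (e0 F W), k ≠ 0 := by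
    have h3 := mu_eq_fm A (fixRep (HQ (HQ A)) ρ) (transN_minus hTy) ψ (hyp0 A).left_ne
    rw [(hyp0 A).left, hfm0] at h3
    have h4 : ws (HQ A) (fixRep (HQ (HQ A)) ρ) ψ (e0 F W) ≠ ⊥ := by
      intro h4
      rw [mu, h4, finrank_bot] at h3
      exact zero_ne_one h3
    exact Submodule.exists_mem_ne_zero_of_ne_bot h4
  -- `theta k`
  have hk1 : fixRep (HQ (HQ A)) ρ (sE (HQ A) (e0 F W)) k = k := by
    have h3 := hk (e0 F W)
    have h4 : ch (HQ A) ψ (e0 F W) (e0 F W) = 1 := by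
      rw [ch_apply, (hyp0 A).polar_left, AddChar.map_zero_eq_one]
    rw [h4, one_smul] at h3
    exact h3
  have hkt : fixRep (HQ (HQ A)) ρ (T A h2) k ∈ ws (HQ A) (fixRep (HQ (HQ A)) ρ) ψ (e0 F W) := by
    apply mem_ws_of_fix hTy hF hψ1 _ hmu' hfm'
    rw [← Module.End.mul_apply, ← map_mul, ← T_sE_e0, map_mul, Module.End.mul_apply, hk1]
  -- the components of `p`
  set p : M := ρ (T (HQ A) h2) (k : M) with hp
  set l₂ : (W × F × F) × F × F := (e0 F W, 0, 0) with hl2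
  set l₃ : (W × F × F) × F × F := (e0 F W, 1, 0) with hl3
  have hne23 : l₂ ≠ l₃ := by
    intro h
    have := congrArg (fun x : (W × F × F) × F × F => x.2.1) h
    simp [hl2, hl3] at this
  set p₂ : M := pr (RR (HQ (HQ A)) ρ) (ch (HQ (HQ A)) ψ l₂) p with hp2
  set p₃ : M := pr (RR (HQ (HQ A)) ρ) (ch (HQ (HQ A)) ψ l₃) p with hp3
  have hp2m : p₂ ∈ ws (HQ (HQ A)) ρ ψ l₂ := pr_mem hact _ p
  have hp3m : p₃ ∈ ws (HQ (HQ A)) ρ ψ l₃ := pr_mem hact _ p
  have hchne : ch (HQ (HQ A)) ψ l₂ ≠ ch (HQ (HQ A)) ψ l₃ := fun h => hne23 (ch_injective (HQ (HQ A)) hN2 hψ1 h)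
  have hsum : p = p₂ + p₃ := by
    nth_rewrite 1 [eq_sum_pr hact p]
    refine Finset.sum_eq_add _ _ hchne ?_ (fun h => absurd (Finset.mem_univ _) h)
      (fun h => absurd (Finset.mem_univ _) h)
    intro χ _ hχ
    by_contra hne
    obtain ⟨l, rfl⟩ := (chEquiv (HQ (HQ A)) hN2 hψ1).surjective χ
    rw [chEquiv_apply] at hne hχ
    obtain ⟨h3, h4⟩ := weights ρ h2 hN hψ1 hψ hk hne
    rcases zero_or_one hF l.2.1 with h5 | h5
    · apply hχ.1
      congr 1
      exact Prod.ext h3 (Prod.ext h5 h4)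
    · apply hχ.2
      congr 1
      exact Prod.ext h3 (Prod.ext h5 h4)
  -- the element `sigma`
  have hD : ∀ w : (W × F × F) × F × F, ρ (sE (HQ (HQ A)) w) (k : M) = k := by
    intro w
    have h3 := k.2 w
    have h4 : ρ (sE (HQ (HQ A)) w) (k : M) = (1 : ℂ) • (k : M) := h3
    rw [h4, one_smul]
  have hsp : ρ (extE (HQ (HQ A)) (sE (HQ A) (f0 F W))) p = p := by
    rw [hp, ← Module.End.mul_apply, ← map_mul, ← T_sE, map_mul, Module.End.mul_apply, hD]
  have hpf : polar (HQ A) (f0 F W) (e0 F W) = 1 := (hyp0 A).pair'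
  have hs2 : ρ (extE (HQ (HQ A)) (sE (HQ A) (f0 F W))) p₂ ∈ ws (HQ (HQ A)) ρ ψ l₃ := by
    have h3 := extE_map_ws (HQ (HQ A)) ρ ψ (sE (HQ A) (f0 F W)) l₂ hp2m
    have h4 : ((sE (HQ A) (f0 F W)) : E (HQ (HQ A))).1 l₂ = l₃ := by
      show sg (HQ A) (f0 F W) l₂ = l₃
      rw [sg_apply]
      refine Prod.ext ?_ (Prod.ext ?_ rfl)
      · show e0 F W + (0 : F) • f0 F W = e0 F W
        rw [zero_smul, add_zero]
      · show (0 : F) - polar (HQ A) (f0 F W) (e0 F W) - HQ A (f0 F W) * 0 = 1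
        rw [hpf, mul_zero, sub_zero, zero_sub, hm1]
    rwa [h4] at h3
  have hs3 : ρ (extE (HQ (HQ A)) (sE (HQ A) (f0 F W))) p₃ ∈ ws (HQ (HQ A)) ρ ψ l₂ := by
    have h3 := extE_map_ws (HQ (HQ A)) ρ ψ (sE (HQ A) (f0 F W)) l₃ hp3m
    have h4 : ((sE (HQ A) (f0 F W)) : E (HQ (HQ A))).1 l₃ = l₂ := by
      show sg (HQ A) (f0 F W) l₃ = l₂
      rw [sg_apply]
      refine Prod.ext ?_ (Prod.ext ?_ rfl)
      · show e0 F W + (0 : F) • f0 F W = e0 F W
        rw [zero_smul, add_zero]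
      · show (1 : F) - polar (HQ A) (f0 F W) (e0 F W) - HQ A (f0 F W) * 0 = 0
        rw [hpf, mul_zero, sub_zero, sub_self]
    rwa [h4] at h3
  have hs : ρ (extE (HQ (HQ A)) (sE (HQ A) (f0 F W))) p₂ = p₃ := by
    have h3 : pr (RR (HQ (HQ A)) ρ) (ch (HQ (HQ A)) ψ l₃) (ρ (extE (HQ (HQ A)) (sE (HQ A) (f0 F W))) p) = p₃ := by
      rw [hsp]
    rw [hsum, map_add, map_add, pr_of_mem hs2, pr_of_mem_ne hchne.symm hs3, add_zero] at h3
    exact h3
  -- the projections of `T p₂`, `T p₃`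
  have hTp : ρ (T (HQ A) h2) p = k := by
    rw [hp, ← Module.End.mul_apply, ← map_mul, T_mul_T, map_one, Module.End.one_apply]
  have h23 : pr (RR (HQ (HQ A)) ρ) 1 (ρ (T (HQ A) h2) p₃) = pr (RR (HQ (HQ A)) ρ) 1 (ρ (T (HQ A) h2) p₂) := by
    rw [← hs, ← Module.End.mul_apply (ρ (T (HQ A) h2)), ← map_mul, T_extE, map_mul, Module.End.mul_apply]
    have h3 := pr_R hact 1 (em F (f0 F W)) (ρ (T (HQ A) h2) p₂)
    have h4 : (1 : AddChar ((W × F × F) × F × F) ℂ) (em F (f0 F W)) = 1 := rfl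
    rw [h4, one_smul] at h3
    exact h3
  have hk2 : pr (RR (HQ (HQ A)) ρ) 1 (ρ (T (HQ A) h2) p₃) + pr (RR (HQ (HQ A)) ρ) 1 (ρ (T (HQ A) h2) p₃) = k := by
    nth_rewrite 1 [h23]
    rw [← map_add, ← map_add, ← hsum, hTp]
    exact pr_of_mem k.2
  -- `theta p₃ = p₃`
  have hth3 : ρ (theta A h2) p₃ = p₃ := by
    obtain ⟨a, ha⟩ := exists_ne (0 : W)
    obtain ⟨c, hc⟩ := hTy.nondeg.exists_polar_eq ha 1
    have hx := (quad2 A).left
    have hy := (quad2 A).right
    have hxy := (quad2 A).pol h2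
    have hmu3 : mu (HQ (HQ A)) ρ ψ l₃ ≤ 1 := by
      have h3 : l₃ ≠ 0 := by
        intro h3
        have := congrArg (fun x : (W × F × F) × F × F => x.2.1) h3
        simp [hl3] at this
      rw [mu_eq_fm (HQ A) ρ hT ψ h3]
      have h4 : HQ (HQ A) l₃ = 0 := by
        rw [HQ_apply, hl3, (hyp0 A).left, mul_zero, add_zero]
      rw [h4, hfm]
    refine triv_of_pair (Q := HQ (HQ A)) ρ hx hy hxy (a := em2 F a) (c := em2 F c) ?_ ?_ ?_ ?_ ?_ ?_ ?_ ?_ ?_
      hmu3 (T A h2).2 hp3m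
    · rw [polar_add_left, polar_e0, polar_em, hl3, (hyp0 A).polar_left, add_zero]
    · rw [polar_add_left, polar_f0, polar_em, hl3, hpf, h2]
    · rw [polar_add_left, polar_e0, polar_em, polar_e0, add_zero]
    · rw [polar_add_left, polar_f0, polar_em, polar_f0, add_zero]
    · rw [polar_em, hl3, polar_comm, polar_e0]
    · rw [polar_add_left, polar_e0, polar_em, polar_e0, add_zero]
    · rw [polar_add_left, polar_f0, polar_em, polar_f0, add_zero]
    · rw [polar_em, hl3, polar_comm, polar_e0]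
    · rw [polar_em_em, polar_em_em]; exact hc
  -- `theta p₂`
  have hth2 : ρ (theta A h2) p₂ ∈ ws (HQ (HQ A)) ρ ψ (e0 F (W × F × F)) := by
    have h3 := extE_map_ws (HQ (HQ A)) ρ ψ (T A h2) l₂ hp2m
    have h4 : (T A h2).1 l₂ = e0 F (W × F × F) := sw_y h2 (quad2 A)
    rwa [h4] at h3
  have hz : ∀ v ∈ ws (HQ (HQ A)) ρ ψ (e0 F (W × F × F)), pr (RR (HQ (HQ A)) ρ) 1 (ρ (T (HQ A) h2) v) = 0 := by
    intro v hv
    have hxm : pr (RR (HQ (HQ A)) ρ) 1 (ρ (T (HQ A) h2) v) ∈ wt (RR (HQ (HQ A)) ρ) 1 := pr_mem hact 1 _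
    have h3 : (⟨_, hxm⟩ : V' ρ) ∈ ws (HQ A) (fixRep (HQ (HQ A)) ρ) ψ 0 := by
      intro w
      apply Subtype.ext
      show ρ (extE (HQ (HQ A)) (sE (HQ A) w)) (pr (RR (HQ (HQ A)) ρ) 1 (ρ (T (HQ A) h2) v)) =
        ch (HQ A) ψ 0 w • pr (RR (HQ (HQ A)) ρ) 1 (ρ (T (HQ A) h2) v)
      rw [pr_extE, ← Module.End.mul_apply (ρ (extE (HQ (HQ A)) (sE (HQ A) w))), ← map_mul, ← T_sE, map_mul,
        Module.End.mul_apply]
      have h4 := hv (em F w)
      have h5 : ch (HQ (HQ A)) ψ (e0 F (W × F × F)) (em F w) = 1 := by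
        rw [ch_apply, polar_e0_em, AddChar.map_zero_eq_one]
      have h6 : ρ (sE (HQ (HQ A)) (em F w)) v = ch (HQ (HQ A)) ψ (e0 F (W × F × F)) (em F w) • v := h4
      rw [h6, h5, one_smul, ch_zero]
      exact (one_smul ℂ _).symm
    have h4 : ws (HQ A) (fixRep (HQ (HQ A)) ρ) ψ 0 = ⊥ := Submodule.finrank_eq_zero.1 hmu'
    rw [h4, Submodule.mem_bot] at h3
    exact congrArg Subtype.val h3
  -- the braid relation
  have hb : ρ (T (HQ A) h2) (ρ (theta A h2) p) = ρ (theta A h2) (ρ (T (HQ A) h2) (ρ (theta A h2) (k : M))) := by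
    have h3 := braid A h2
    have h4 : (theta A h2)⁻¹ = theta A h2 := inv_eq_of_mul_eq_one_left (theta_mul_theta A h2)
    rw [T_inv, h4] at h3
    rw [hp, ← Module.End.mul_apply, ← Module.End.mul_apply, ← Module.End.mul_apply, ← Module.End.mul_apply,
      ← map_mul, ← map_mul, ← map_mul, ← map_mul, h3]
  have hR : pr (RR (HQ (HQ A)) ρ) 1 (ρ (theta A h2) (ρ (T (HQ A) h2) (ρ (theta A h2) (k : M)))) = 0 := by
    have h3 := pr_T_eq_zero ρ h2 hN hψ1 hψ hkt
    have h4 : ((fixRep (HQ (HQ A)) ρ (T A h2) k : V' ρ) : M) = ρ (theta A h2) (k : M) := rfl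
    rw [h4] at h3
    rw [theta, ← pr_extE, ← theta, h3, map_zero]
  rw [← hb, hsum, map_add, map_add, map_add, hth3, hz _ hth2, zero_add] at hR
  apply hk0
  apply Subtype.ext
  rw [← hk2, hR, add_zero]
  rfl

end Main

end Cfsg.Agent.H122.OrthTwo
end

-- part: H122/OrthMinus
section
/-!
# The minimal degree of `Ω⁻_{2n}(q)`, `n ≥ 4`
-/

set_option autoImplicit false
set_option linter.unusedSectionVars false

namespace Cfsg.Agent.H122.OrthMinus

open QuadraticMap Module Cfsg.Agent.LieClassical.OrthCore Cfsg.Agent.LieClassical.OrthTrans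
  Cfsg.Agent.LieClassical.OrthFinite Cfsg.Agent.LieClassical.OrthForms Cfsg.Agent.H121.Wt Cfsg.Agent.H121.Chr
  Cfsg.Agent.H122.OrthWt Cfsg.Agent.H122.OrthTy Cfsg.Agent.H122.OrthSum Cfsg.Agent.H122.OrthInt
  Cfsg.Agent.H122.OrthRep Cfsg.Agent.H122.OrthStep Cfsg.Agent.H122.OrthArith Cfsg.Agent.H122.OrthIso
  Cfsg.Agent.H122.OrthTriv Cfsg.Agent.H122.OrthBaseMinus Cfsg.Agent.H122

/-- the arithmetic for `q ≥ 3` -/
theorem not_dvd_four {q X : ℤ} (hq : 3 ≤ q)
    (hX : X * (q ^ 2 - 1) = ((q ^ 4 - -1) * (q ^ 3 + -1)) * ((q ^ 3 - -1) * (q ^ 2 + -1))) :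
    ¬ ((q - 1) * (q ^ 4 + q ^ 3 + q ^ 2 + q + 2) ∣ X * (q - 2)) := by
  rintro ⟨c, hc⟩
  have hq2 : 0 < q ^ 2 - 1 := by nlinarith
  have h1 : X = (q ^ 4 + 1) * (q ^ 3 - 1) * (q ^ 3 + 1) := by
    apply mul_right_cancel₀ hq2.ne'
    rw [hX]
    ring
  have hq1 : q - 1 ≠ 0 := by omega
  have h2 : (q ^ 4 + 1) * (q ^ 2 + q + 1) * (q ^ 3 + 1) * (q - 2) = (q ^ 4 + q ^ 3 + q ^ 2 + q + 2) * c := by
    apply mul_left_cancel₀ hq1
    rw [h1] at hc
    linear_combination hc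
  have h3 : q ^ 4 + q ^ 3 + q ^ 2 + q + 2 ∣ 2 * q ^ 3 + 2 * q ^ 2 + 8 :=
    ⟨c - (q ^ 6 - 2 * q ^ 5 + 2 * q - 5), by linear_combination h2⟩
  refine dvd_le_false h3 (by positivity) ?_
  nlinarith [pow_pos (show (0 : ℤ) < q by omega) 3, pow_pos (show (0 : ℤ) < q by omega) 2]

variable {F W : Type*} [Field F] [Fintype F] [AddCommGroup W] [Module F W] [Fintype W]

/-- no representation of degree 32 of `Ω⁻₈(2)` -/
theorem no32 {A : QuadraticForm F W} (hTy : Ty (-1) 1 A) (hF : Fintype.card F = 2) {M : Type} [AddCommGroup M]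
    [Module ℂ M] [FiniteDimensional ℂ M] (ρ : Representation ℂ (E (HQ (HQ (HQ A)))) M) (hρ : ∃ g, ρ g ≠ 1)
    (hd : finrank ℂ M = 32) : False := by
  classical
  obtain ⟨ψ, hψ⟩ := OrthRed.exists_psi F
  have hG : Good (HQ (HQ (HQ A))) := Ty.good hTy.up.up.up (by omega)
  have hG' : Good (HQ (HQ A)) := Ty.good hTy.up.up (by omega)
  have hT : TransN (HQ (HQ A)) := transN_of_good _ hG'
  have hnt : Nontrivial W := Module.nontrivial_of_finrank_pos (R := F) (by rw [Ty.finrank hTy]; omega)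
  obtain ⟨h1, h2, -, -⟩ := analysis ρ hTy hG hT hψ hρ (b := 0) (fun _ _ _ _ _ _ => Nat.zero_le _) (fun _ => False)
    (fun _ _ _ _ _ h => h.elim)
  have hf0 : fm (HQ A) ρ ψ 0 ≤ ∑ c, fm (HQ A) ρ ψ c :=
    Finset.single_le_sum (f := fun c => fm (HQ A) ρ ψ c) (fun _ _ => Nat.zero_le _) (Finset.mem_univ 0)
  rw [hd, hF] at h2
  have hS : ∑ c, fm (HQ A) ρ ψ c = 1 := by
    generalize (∑ c, fm (HQ A) ρ ψ c) = S at *
    push_cast at h2
    norm_num at h2
    omega
  have hfm : fm (HQ A) ρ ψ 0 = 1 := by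
    rw [hS] at h2 hf0
    push_cast at h2
    norm_num at h2
    omega
  have hmu : mu (HQ (HQ A)) ρ ψ 0 = 5 := by
    rw [hS, hfm] at h2
    push_cast at h2
    norm_num at h2
    omega
  have hfmc : ∀ c ≠ 0, fm (HQ A) ρ ψ c = 0 := by
    intro c hc
    have h3 : fm (HQ A) ρ ψ 0 + fm (HQ A) ρ ψ c ≤ ∑ c, fm (HQ A) ρ ψ c := by
      rw [← Finset.add_sum_erase Finset.univ _ (Finset.mem_univ (0 : F))]
      have := Finset.single_le_sum (f := fun c => fm (HQ A) ρ ψ c) (fun _ _ => Nat.zero_le _)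
        (Finset.mem_erase.2 ⟨hc, Finset.mem_univ c⟩)
      omega
    omega
  have hfin : finrank ℂ (wt (RR (HQ (HQ A)) ρ) 1) = 5 := by
    rw [mu, ws, ch_zero] at hmu
    exact hmu
  -- the fixed space is nontrivial
  have hnt' : ∃ g, fixRep (HQ (HQ A)) ρ g ≠ 1 := by
    by_contra hcon
    push Not at hcon
    have h3 := trace_fix ρ hG hTy.up.up.nondeg hT hψ (fun l hl h4 h5 v hv => by
      have h6 := mu_eq_fm (HQ A) ρ hT ψ hl
      by_cases h7 : HQ (HQ A) l = 0
      · have h8 : A l.1.1 = 0 := by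
          rw [HQ_apply, HQ_apply, h4, h5, mul_zero, mul_zero, add_zero, add_zero] at h7
          exact h7
        refine triv_plane ρ hTy.nondeg h4 h5 (aniso hTy _ h8) ?_ v hv
        rw [h6, h7, hfm]
      · rw [hfmc _ h7] at h6
        have h8 : ws (HQ (HQ A)) ρ ψ l = ⊥ := Submodule.finrank_eq_zero.1 h6
        rw [h8, Submodule.mem_bot] at hv
        rw [hv, map_zero])
    have h4 : ρ (extE (HQ (HQ A)) (rE A)) * pr (RR (HQ (HQ A)) ρ) 1 = pr (RR (HQ (HQ A)) ρ) 1 := by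
      ext v
      rw [Module.End.mul_apply]
      have := LinearMap.congr_fun (hcon (rE A)) ⟨pr (RR (HQ (HQ A)) ρ) 1 v, pr_mem (isAct (HQ (HQ A)) ρ) 1 v⟩
      exact congrArg Subtype.val this
    have hPh : Ph (fun c => (fm (HQ A) ρ ψ c : ℂ)) = ((∑ c, fm (HQ A) ρ ψ c : ℕ) : ℂ) := by
      rw [Ph]; push_cast; rfl
    rw [h4, trace_pr (isAct (HQ (HQ A)) ρ), hfin, hmu, hPh, hS, hTy.card, hF] at h3
    norm_num at h3
  obtain ⟨g1, g2⟩ := dim_minus (fixRep (HQ (HQ A)) ρ) hTy hψ hnt'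
  have hf0' : fm A (fixRep (HQ (HQ A)) ρ) ψ 0 ≤ ∑ c, fm A (fixRep (HQ (HQ A)) ρ) ψ c :=
    Finset.single_le_sum (f := fun c => fm A (fixRep (HQ (HQ A)) ρ) ψ c) (fun _ _ => Nat.zero_le _)
      (Finset.mem_univ 0)
  rw [hfin, hF] at g2
  have hS' : ∑ c, fm A (fixRep (HQ (HQ A)) ρ) ψ c = 1 := by
    generalize (∑ c, fm A (fixRep (HQ (HQ A)) ρ) ψ c) = S at *
    push_cast at g2
    norm_num at g2
    omega
  have hfm' : fm A (fixRep (HQ (HQ A)) ρ) ψ 0 = 1 := by
    rw [hS'] at g2 hf0'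
    push_cast at g2
    norm_num at g2
    omega
  have hmu' : mu (HQ A) (fixRep (HQ (HQ A)) ρ) ψ 0 = 0 := by
    rw [hS', hfm'] at g2
    push_cast at g2
    norm_num at g2
    omega
  have hfmc' : ∀ c ≠ 0, fm A (fixRep (HQ (HQ A)) ρ) ψ c = 0 := by
    intro c hc
    have h3 : fm A (fixRep (HQ (HQ A)) ρ) ψ 0 + fm A (fixRep (HQ (HQ A)) ρ) ψ c ≤
        ∑ c, fm A (fixRep (HQ (HQ A)) ρ) ψ c := by
      rw [← Finset.add_sum_erase Finset.univ _ (Finset.mem_univ (0 : F))]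
      have := Finset.single_le_sum (f := fun c => fm A (fixRep (HQ (HQ A)) ρ) ψ c) (fun _ _ => Nat.zero_le _)
        (Finset.mem_erase.2 ⟨hc, Finset.mem_univ c⟩)
      omega
    omega
  exact OrthTwo.main_two ρ hF hTy hψ hfm hmu' hfm' hfmc'

/-- the minimal degree of `Ω⁻₈(q)` -/
theorem step_four {A : QuadraticForm F W} (hTy : Ty (-1) 1 A) :
    MinDeg (E (HQ (HQ (HQ A)))) (Bm (-1) (Fintype.card F) 1).toNat := by
  classical
  have hq : (2 : ℤ) ≤ (Fintype.card F : ℤ) := by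
    have : 1 < Fintype.card F := Fintype.one_lt_card
    omega
  have hG : Good (HQ (HQ (HQ A))) := Ty.good hTy.up.up.up (by omega)
  have hT : TransN (HQ (HQ A)) := transN_of_good _ (Ty.good hTy.up.up (by omega))
  have hnt : Nontrivial W := Module.nontrivial_of_finrank_pos (R := F) (by rw [Ty.finrank hTy]; omega)
  obtain ⟨ψ, hψ⟩ := OrthRed.exists_psi F
  have hfin : Finite (E (HQ (HQ (HQ A)))) := finite_E _
  apply minDeg_of_irr
  intro M _ _ _ ρ hirr hρ
  rw [Int.toNat_le]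
  by_contra hD
  push Not at hD
  have hB0 : Bm (-1) (Fintype.card F : ℤ) 0 = (Fintype.card F : ℤ) ^ 3 + -1 * (Fintype.card F : ℤ) ^ 2 + (Fintype.card F : ℤ) := rfl
  have hB1 := Bm_succ (-1) (Fintype.card F : ℤ) 0
  rcases OrthRed.main_red (Or.inr rfl) hTy hG hT hψ ρ hρ (base_minus hTy) (fun c => c = 0) rfl
    (fun l _ h1 h2 h3 h4 => by
      have h5 : A l.1.1 = 0 := by
        rw [HQ_apply, HQ_apply, h1, h2, mul_zero, mul_zero, add_zero, add_zero] at h4
        exact h4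
      exact triv_plane ρ hTy.nondeg h1 h2 (aniso hTy _ h5) h3) hD with
    ⟨-, -, -, h6⟩ | ⟨t, h1, h2, h3, h4⟩
  · -- weights of nonzero norm
    rw [h6, hB1, hB0] at hD
    have h7 : (0 : ℤ) ≤ (mu (HQ (HQ A)) ρ ψ 0 : ℤ) := by positivity
    generalize (mu (HQ (HQ A)) ρ ψ 0 : ℤ) = t at *
    generalize (Fintype.card F : ℤ) = q at *
    have h8 : q ^ (0 + 2) * (q ^ (0 + 3) - -1) = q ^ 5 + q ^ 2 := by ring
    have h9 : (q ^ (0 + 3) - -1) * (q ^ (0 + 2) + -1) = q ^ 5 - q ^ 3 + q ^ 2 - 1 := by ring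
    rw [h8, h9] at hD
    nlinarith
  · obtain ⟨X, hX, hd⟩ := OrthRed.dvd_red (Or.inr rfl) hTy hG ρ hirr h4
    have h1' : Bm (-1) (Fintype.card F : ℤ) 0 - 1 ≤ t := by
      have := Int.self_le_toNat (Bm (-1) (Fintype.card F : ℤ) 0 - 1)
      omega
    rw [h3] at hd
    rcases eq_or_lt_of_le h2 with ht | ht
    · refine not_dvd_minus (q := (Fintype.card F : ℤ))
        (z := t + (-1 * (Fintype.card F : ℤ) ^ (0 + 3) - 1) - -1 * (Fintype.card F : ℤ) ^ (0 + 2))
        hq hX (by rw [ht]) ?_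
      convert hd using 1
      rw [Bm_succ, ht]
      ring
    · have ht' : t = Bm (-1) (Fintype.card F : ℤ) 0 - 1 := by omega
      rcases eq_or_lt_of_le hq with hq2 | hq3
      · have hF : Fintype.card F = 2 := by omega
        apply no32 hTy hF ρ hρ
        rw [ht', hB0, hF] at h3
        norm_num at h3
        exact_mod_cast h3
      · refine not_dvd_four (q := (Fintype.card F : ℤ)) (by omega) hX ?_
        convert hd using 1
        · rw [ht', hB0]
          ring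
        · rw [ht', hB0]
          ring

/-- the minimal degree of `Ω⁻_{2n}(q)`, `n = k + 4` -/
theorem minDeg_minus (a b : F) (hab : ∀ z₁ z₂ : F, z₁ ^ 2 + a * z₁ * z₂ + b * z₂ ^ 2 = 0 → z₁ = 0 ∧ z₂ = 0)
    (k : ℕ) : MinDeg (E (minusForm (k + 3) F a b)) (Bm (-1) (Fintype.card F) (k + 1)).toNat := by
  classical
  induction k with
  | zero =>
    have h1 : IsoQ (minusForm (0 + 3) F a b) (HQ (HQ (HQ (minusForm 0 F a b)))) :=
      (isoQ_minus 2 a b).trans ((isoQ_minus 1 a b).hq.trans (isoQ_minus 0 a b).hq.hq)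
    exact h1.symm.minDeg (step_four (ty_minus a b hab 0))
  | succ k ih =>
    have h1 : IsoQ (minusForm (k + 3) F a b) (HQ (HQ (minusForm (k + 1) F a b))) :=
      (isoQ_minus (k + 2) a b).trans (isoQ_minus (k + 1) a b).hq
    have h2 : IsoQ (minusForm (k + 1 + 3) F a b) (HQ (HQ (HQ (minusForm (k + 1) F a b)))) :=
      (isoQ_minus (k + 3) a b).trans h1.hq
    exact h2.symm.minDeg (step_minus (ty_minus a b hab (k + 1)) (h1.minDeg ih))

/-- the bound of the statement -/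
theorem bound_minus {q k : ℕ} (hq : 2 ≤ q) :
    (q ^ (k + 4) + 1) * (q ^ (k + 4 - 1) - q) / (q ^ 2 - 1) = (Bm (-1) (q : ℤ) (k + 1)).toNat := by
  have h1 := Bm_eq (ε := -1) (by norm_num) (q : ℤ) (k + 1)
  have h2 : 1 ≤ q ^ 2 := Nat.one_le_pow _ _ (by omega)
  have h3 : 1 < q ^ 2 := by nlinarith
  have h4 : q ≤ q ^ (k + 4 - 1) := by
    calc q = q ^ 1 := (pow_one q).symm
      _ ≤ q ^ (k + 4 - 1) := Nat.pow_le_pow_right (by omega) (by omega)
  have hB := Bm_nonneg (ε := -1) (q := (q : ℤ)) (Or.inr rfl) (by exact_mod_cast hq) (k + 1)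
  apply Nat.div_eq_of_eq_mul_right (by omega)
  zify [h2, h4]
  rw [Int.toNat_of_nonneg hB, h1]
  have h5 : k + 4 - 1 = k + 3 := by omega
  rw [h5]
  ring

end Cfsg.Agent.H122.OrthMinus
end
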